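import Cfsg.Agent.H345.RG.Fpr
import Cfsg.Agent.H326.TwoCyc.Tools

/-!
# S3509, sporadic groups with outer automorphisms: bounds on the fixed point ratios (helper90)

* `mem_of_odd` : `|Out| ≤ 2`, elements of odd order of `G` are in `N`;
* `two_fpr` : `2 fpr y ≤ 1 + fpr (y⁻¹ (s y s⁻¹))`;
* `noCov_of_bounds` : `NoCov` from bounds for the fixed point ratios.
-/

set_option autoImplicit false
open Cfsg

namespace Cfsg.Agent.H90.RC

open MulAction Subgroup Cfsg.Agent.H106.RC Cfsg.Agent.H345.RG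

section gen

variable {G Ω : Type*} [Group G] [MulAction G Ω] {N : Subgroup G}

/-- the automorphism of `N` induced by an element of `G` -/
theorem mem_of_conj (hE : Env G Ω N) {g : G} (h : (@MulAut.conjNormal G _ N hE.norm g) ∈ (MulAut.conj : N →* MulAut N).range) :
    g ∈ N := by
  have := hE.norm
  obtain ⟨n, hn⟩ := h
  have h1 : (n : G)⁻¹ * g ∈ centralizer (N : Set G) := by
    rw [mem_centralizer_iff]
    intro a ha
    have h2 := congrArg (fun f : MulAut N => ((f ⟨a, ha⟩ : N) : G)) hn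
    simp only [MulAut.conj_apply, MulAut.conjNormal_apply] at h2
    push_cast at h2
    -- n a n⁻¹ = g a g⁻¹
    calc a * ((n : G)⁻¹ * g) = (n : G)⁻¹ * ((n : G) * a * (n : G)⁻¹) * g := by group
      _ = (n : G)⁻¹ * (g * a * g⁻¹) * g := by rw [h2]
      _ = (n : G)⁻¹ * g * a := by group
  rw [hE.cent, mem_bot] at h1
  have h2 : g = n := by
    calc g = (n : G) * ((n : G)⁻¹ * g) := by group
      _ = n := by rw [h1, mul_one]
  rw [h2]
  exact n.2

theorem sq_mem (hE : Env G Ω N) (hi : (MulAut.conj : N →* MulAut N).range.index = 1 ∨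
    (MulAut.conj : N →* MulAut N).range.index = 2) (g : G) : g * g ∈ N := by
  have := hE.norm
  apply mem_of_conj hE
  rw [map_mul]
  rcases hi with hi | hi
  · rw [index_eq_one.1 hi]; trivial
  · exact Subgroup.mul_self_mem_of_index_two hi _

/-- elements of odd order are in `N` -/
theorem mem_of_odd (hE : Env G Ω N) (hi : (MulAut.conj : N →* MulAut N).range.index = 1 ∨
    (MulAut.conj : N →* MulAut N).range.index = 2) {g : G} {n : ℕ} (hn : Odd n) (hg : g ^ n = 1) : g ∈ N := by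
  obtain ⟨t, rfl⟩ := hn
  have h1 : (g * g) ^ t ∈ N := N.pow_mem (sq_mem hE hi g) t
  have h2 : g = ((g * g) ^ t)⁻¹ := by
    rw [eq_comm, inv_eq_iff_mul_eq_one, ← pow_two, ← pow_mul, ← pow_succ, hg]
  rw [h2]
  exact N.inv_mem h1

/-- the centraliser in `N` of an element of `N` -/
theorem card_inf_cent {x : G} (hx : x ∈ N) :
    Nat.card ↥(N ⊓ centralizer ({x} : Set G)) = Nat.card (centralizer ({(⟨x, hx⟩ : N)} : Set N)) := by
  refine Nat.card_congr ⟨fun a => ⟨⟨a.1, a.2.1⟩, mem_centralizer_singleton_iff.2 (Subtype.ext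
    (mem_centralizer_singleton_iff.1 a.2.2))⟩, fun a => ⟨a.1.1, a.1.2, mem_centralizer_singleton_iff.2
    (congrArg Subtype.val (mem_centralizer_singleton_iff.1 a.2))⟩, fun _ => rfl, fun _ => rfl⟩

theorem big_of_index [Finite G] (hE : Env G Ω N) {m : ℕ} (hm : ∀ H : Subgroup N, H ≠ ⊤ → m ≤ H.index) : Big Ω N m :=
  fun ω => H867.RC.le_orbit hE hm ω

/-- `2 fpr y ≤ 1 + fpr (y⁻¹ (s y s⁻¹))` -/
theorem two_fpr [Finite Ω] [Nonempty Ω] (y s : G) : 2 * fpr Ω y ≤ 1 + fpr Ω (y⁻¹ * (s * y * s⁻¹)) := by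
  classical
  have := Fintype.ofFinite Ω
  have hn : (0 : ℚ) < Nat.card Ω := by exact_mod_cast (Nat.card_pos : 0 < Nat.card Ω)
  have h1 : fpr Ω (s * y * s⁻¹) = fpr Ω y := fpr_conj s y
  have h2 : Nat.card (fixedBy Ω y) + Nat.card (fixedBy Ω (s * y * s⁻¹)) ≤
      Nat.card Ω + Nat.card (fixedBy Ω (y⁻¹ * (s * y * s⁻¹))) := by
    have e : ∀ g : G, Nat.card (fixedBy Ω g) = (Finset.univ.filter fun ω : Ω => g • ω = ω).card := by
      intro g
      rw [Nat.card_eq_fintype_card, Fintype.card_subtype]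
      rfl
    rw [e, e, e, Nat.card_eq_fintype_card, ← Finset.card_union_add_card_inter]
    refine Nat.add_le_add (Finset.card_le_univ _) (Finset.card_le_card ?_)
    intro ω hω
    rw [Finset.mem_inter, Finset.mem_filter, Finset.mem_filter] at hω
    rw [Finset.mem_filter]
    refine ⟨Finset.mem_univ _, ?_⟩
    rw [mul_smul, hω.2.2, inv_smul_eq_iff]
    exact hω.1.2.symm
  have h3 : fpr Ω y + fpr Ω (s * y * s⁻¹) ≤ 1 + fpr Ω (y⁻¹ * (s * y * s⁻¹)) := by
    unfold fpr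
    rw [← add_div, div_le_iff₀ hn, add_mul, div_mul_cancel₀ _ hn.ne', one_mul]
    exact_mod_cast h2
  linarith

/-- **`NoCov` from bounds on the fixed point ratios** -/
theorem noCov_of_bounds {S : Type} [Group S] (ps : Finset ℕ) (β : ℕ → ℚ) (hβ0 : ∀ p ∈ ps, 0 ≤ β p)
    (hsum : ∑ p ∈ ps, β p < 1)
    (h : ∀ (G : Type) [Group G] [Finite G] (Ω : Type) [Finite Ω] [Nonempty Ω] [MulAction G Ω] (N : Subgroup G),
      Env G Ω N → (N ≃* S) → ∀ (p : ℕ) (x : G), p.Prime → x ^ p = 1 → x ≠ 1 → p ∈ ps ∧ fpr Ω x ≤ β p) : NoCov S := by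
  classical
  intro G _ _ Ω _ _ _ N hE e ι _ x r hx hc hm
  have : Fintype ι := Fintype.ofFinite ι
  refine dead_of_sum hc (fun i => β (r i)) (fun i => (h G Ω N hE e _ _ (hx.prime i) (hx.pow i) (hx.ne i)).2) ?_
  refine lt_of_le_of_lt ?_ hsum
  have h1 : ∑ i, β (r i) = ∑ p ∈ Finset.univ.image r, β p := (Finset.sum_image fun a _ b _ h => hx.inj h).symm
  rw [h1]
  refine Finset.sum_le_sum_of_subset_of_nonneg ?_ fun p hp _ => hβ0 p hp
  intro p hp
  obtain ⟨i, -, rfl⟩ := Finset.mem_image.1 hp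
  exact (h G Ω N hE e _ _ (hx.prime i) (hx.pow i) (hx.ne i)).1

end gen

end Cfsg.Agent.H90.RC
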