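import Cfsg.Agent.H90.RC.JTwoMod
import Cfsg.Agent.H90.RC.Tools
import Cfsg.Agent.H873.RG.Defs
import Cfsg.Agent.H273.PiSpor.RowJ3

/-!
# S3509, the row `J₂` (helper90)

A cover with all members in `N` is dead (`inner`). An outer involution inverts an element of order 7, so it has fixed point
ratio at most `7/32 + 1/7`; it fixes no element of order 5; elements of order 7 have fixed point ratio at most `7/32`, elements
of order 3 at most `33/64`, and elements of order 3 and 7 do not commute.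
-/

set_option autoImplicit false
set_option maxRecDepth 100000
open Cfsg

namespace Cfsg.Agent.H90.RC.JTwo

open MulAction Subgroup Cfsg.Agent.H106.RC Cfsg.Agent.H345.RG Cfsg.Agent.H90.RC

theorem seven {K : Type} [Group K] (h : Spor.IsoJ2 K) {y : K} (hy : orderOf y = 7) :
    Nat.card (centralizer ({y} : Set K)) = 7 := by
  have h1 := (H715.Fpr.J2.cn7 h (R := zpowers y) (by rw [Nat.card_zpowers, hy])).1
  rwa [zpowers_eq_closure, centralizer_closure] at h1

theorem noCov (S : Type) [Group S] [Finite S] (hS : Spor.IsoJ2 S) : NoCov S := by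
  classical
  intro G _ _ Ω _ _ _ N hE e ι _ x r hx hc hm
  have hN : Spor.IsoJ2 N := by
    obtain ⟨e'⟩ := hS
    exact ⟨e.trans e'⟩
  have : Fintype ι := Fintype.ofFinite ι
  have hnorm := hE.norm
  -- squares are in `N`
  have hsq : ∀ g : G, g * g ∈ N := by
    intro g
    obtain ⟨t, u, Q, v, ρ, D⟩ := KFacts.J2.Facts.exists_dat_of hN
    obtain ⟨k, hk⟩ := D.sq_inner (MulAut.conjNormal g : MulAut N)
    refine mem_of_conj hE ?_
    rw [map_mul, hk]
    exact ⟨k, rfl⟩
  have hodd : ∀ (g : G) (n : ℕ), Odd n → g ^ n = 1 → g ∈ N := by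
    rintro g n ⟨t, rfl⟩ hg
    have h1 : (g * g) ^ t ∈ N := N.pow_mem (hsq g) t
    have h2 : g = ((g * g) ^ t)⁻¹ := by
      rw [eq_comm, inv_eq_iff_mul_eq_one, ← pow_two, ← pow_mul, ← pow_succ, hg]
    rw [h2]
    exact N.inv_mem h1
  by_cases hall : ∀ i, x i ∈ N
  · -- all members in `N`
    refine inner (K := N) (Ω := Ω) hN (fun t ht => ?_) (x := fun i => ⟨x i, hall i⟩) (r := r)
      { prime := hx.prime
        inj := hx.inj
        ne := fun i h => hx.ne i (congrArg Subtype.val h)
        pow := fun i => Subtype.ext (hx.pow i)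
        comm := fun i j => Subtype.ext (hx.comm i j) } hc
    by_contra hno
    push Not at hno
    exact ht (Subtype.ext (hE.single fun ω => hno ω))
  push Not at hall
  obtain ⟨i0, hi0⟩ := hall
  have hB : Big Ω N 32 := big_of_index hE fun H hH => H715.Fpr.J2.lb hN H hH
  have hord : ∀ i, orderOf (x i) = r i := fun i => by
    have := Fact.mk (hx.prime i)
    exact orderOf_eq_prime (hx.pow i) (hx.ne i)
  have hr0 : r i0 = 2 := by
    by_contra h2
    exact hi0 (hodd _ _ ((hx.prime i0).odd_of_ne_two h2) (hx.pow i0))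
  have hr : ∀ i, i ≠ i0 → r i ≠ 2 := fun i hi h2 => hi (hx.inj (h2.trans hr0.symm))
  have hmem : ∀ i, i ≠ i0 → x i ∈ N := fun i hi => hodd _ _ ((hx.prime i).odd_of_ne_two (hr i hi)) (hx.pow i)
  -- the automorphism
  set α : MulAut N := MulAut.conjNormal (x i0) with hα
  have hα2 : α * α = 1 := by
    rw [hα, ← map_mul, ← pow_two, ← hr0, hx.pow, map_one]
  have hαo : ∀ k : N, α ≠ MulAut.conj k := fun k hk => hi0 (mem_of_conj hE ⟨k, hk.symm⟩)
  have hαv : ∀ z : N, ((α z : N) : G) = x i0 * (z : G) * (x i0)⁻¹ := fun z => MulAut.conjNormal_apply _ _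
  obtain ⟨⟨y, hy, hya⟩, h5⟩ := out_facts hN hα2 hαo
  have hseven : ∀ z ∈ N, orderOf z = 7 → fpr Ω z ≤ 7 / 32 := by
    intro z hz ho
    have h1 := F1 (m := 32) (by norm_num) hB hE.norm z
    rw [card_inf_cent hz, seven hN (by rw [Subgroup.orderOf_mk, ho])] at h1
    exact_mod_cast h1
  have hout : fpr Ω (x i0) ≤ 7 / 32 + 1 / 7 := by
    have h1 : x i0 * (y : G) * (x i0)⁻¹ = (y : G) ^ 6 := by
      rw [← hαv, hya]
      have h2 : y⁻¹ = y ^ 6 := by
        rw [inv_eq_iff_mul_eq_one, ← pow_succ']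
        exact orderOf_dvd_iff_pow_eq_one.1 hy.dvd
      rw [h2, Subgroup.coe_pow]
    have h3 := F3 (Ω := Ω) (x := x i0) (y := (y : G)) (r := 7) (a := 6) (by norm_num) (by
      rw [← Subgroup.coe_pow, ← hy, pow_orderOf_eq_one, Subgroup.coe_one]) h1 (by decide)
    have h4 := hseven y y.2 (by rw [Subgroup.orderOf_coe, hy])
    push_cast at h3
    linarith
  have hthree : ∀ z ∈ N, orderOf z = 3 → fpr Ω z ≤ 33 / 64 := by
    intro z hz ho
    obtain ⟨c, d, hcd⟩ := three_gen hN (x := (⟨z, hz⟩ : N)) (by rw [Subgroup.orderOf_mk, ho])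
    have hle : N ≤ Gen z [1, (c : G), (d : G)] := by
      have h1 : (Gen (⟨z, hz⟩ : N) [1, c, d]).map N.subtype ≤ Gen z [1, (c : G), (d : G)] := by
        unfold Gen
        rw [MonoidHom.map_closure]
        apply Subgroup.closure_mono
        rintro _ ⟨_, ⟨l, hl, rfl⟩, rfl⟩
        refine ⟨(l : G), ?_, rfl⟩
        simp only [List.mem_cons, List.not_mem_nil, or_false] at hl ⊢
        rcases hl with rfl | rfl | rfl
        · exact Or.inl rfl
        · exact Or.inr (Or.inl rfl)
        · exact Or.inr (Or.inr rfl)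
      rw [hcd] at h1
      intro n hn
      exact h1 ⟨⟨n, hn⟩, trivial, rfl⟩
    have hz3 : z ^ 3 = 1 := by rw [← ho, pow_orderOf_eq_one]
    have hz1 : z ≠ 1 := by
      rintro rfl
      rw [orderOf_one] at ho
      norm_num at ho
    have h1 := F2 (Ω := Ω) (m := 32) (by norm_num) hB (p := 3) Nat.prime_three hz3 hz1 [1, (c : G), (d : G)]
      (by simp) hle
    refine h1.trans ?_
    simp only [List.length_cons, List.length_nil]
    norm_num
  -- the primes
  have hrs : ∀ i, i ≠ i0 → r i = 3 ∨ r i = 7 := by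
    intro i hi
    have h1 : r i ∣ 604800 := by
      have hc : Nat.card N = 604800 := H715.Fpr.J2.card hN
      rw [← hc, ← hord i, ← Subgroup.orderOf_mk (x i) (hmem i hi)]
      exact orderOf_dvd_natCard _
    have h2 : (604800 : ℕ) = 2 ^ 7 * 3 ^ 3 * 5 ^ 2 * 7 := by norm_num
    have hp := hx.prime i
    rw [h2, hp.dvd_mul, hp.dvd_mul, hp.dvd_mul] at h1
    rcases h1 with ((h1 | h1) | h1) | h1
    · exact absurd ((Nat.prime_dvd_prime_iff_eq hp Nat.prime_two).1 (hp.dvd_of_dvd_pow h1)) (hr i hi)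
    · exact Or.inl ((Nat.prime_dvd_prime_iff_eq hp Nat.prime_three).1 (hp.dvd_of_dvd_pow h1))
    · exfalso
      have h3 := (Nat.prime_dvd_prime_iff_eq hp Nat.prime_five).1 (hp.dvd_of_dvd_pow h1)
      refine h5 ⟨x i, hmem i hi⟩ (by rw [Subgroup.orderOf_mk, hord, h3]) (Subtype.ext ?_)
      rw [hαv]
      show x i0 * x i * (x i0)⁻¹ = x i
      rw [mul_inv_eq_iff_eq_mul]
      exact hx.comm i0 i
    · exact Or.inr ((Nat.prime_dvd_prime_iff_eq hp (by norm_num)).1 h1)
  -- 3 and 7 do not occur together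
  have h37 : ∀ i j, i ≠ i0 → j ≠ i0 → r i = 7 → r j = 3 → False := by
    intro i j hi hj h7 h3
    have h1 : (⟨x j, hmem j hj⟩ : N) ∈ centralizer ({(⟨x i, hmem i hi⟩ : N)} : Set N) :=
      mem_centralizer_singleton_iff.2 (Subtype.ext (hx.comm j i))
    have h2 := Subgroup.orderOf_dvd_natCard _ h1
    rw [seven hN (by rw [Subgroup.orderOf_mk, hord, h7]), Subgroup.orderOf_mk, hord, h3] at h2
    norm_num at h2
  let β : ι → ℚ := fun i => if i = i0 then 7 / 32 + 1 / 7 else 33 / 64
  have hβ : ∀ i, fpr Ω (x i) ≤ β i := by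
    intro i
    by_cases hi : i = i0
    · subst hi
      simpa [β] using hout
    · simp only [β, hi, if_false]
      rcases hrs i hi with h | h
      · exact hthree _ (hmem i hi) (by rw [hord, h])
      · exact (hseven _ (hmem i hi) (by rw [hord, h])).trans (by norm_num)
  refine dead_of_sum hc β hβ ?_
  -- at most one further member
  rw [← Finset.add_sum_erase _ _ (Finset.mem_univ i0)]
  have hcard : (Finset.univ.erase i0).card ≤ 1 := by
    rw [Finset.card_le_one]
    intro a ha b hb
    have ha' := Finset.ne_of_mem_erase ha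
    have hb' := Finset.ne_of_mem_erase hb
    apply hx.inj
    rcases hrs a ha' with h | h <;> rcases hrs b hb' with h' | h'
    · rw [h, h']
    · exact (h37 b a hb' ha' h' h).elim
    · exact (h37 a b ha' hb' h h').elim
    · rw [h, h']
  have hsum : ∑ i ∈ Finset.univ.erase i0, β i ≤ 33 / 64 := by
    have h1 : ∑ i ∈ Finset.univ.erase i0, β i = ((Finset.univ.erase i0).card : ℚ) * (33 / 64) := by
      rw [← nsmul_eq_mul, ← Finset.sum_const]
      refine Finset.sum_congr rfl fun i hi => ?_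
      simp [β, Finset.ne_of_mem_erase hi]
    rw [h1]
    have h2 : ((Finset.univ.erase i0).card : ℚ) ≤ 1 := by exact_mod_cast hcard
    nlinarith
  have h0 : β i0 = 7 / 32 + 1 / 7 := by simp [β]
  rw [h0]
  linarith

/-- **the row `J₂`** -/
theorem rc (S : Type) [Group S] [Finite S] (hS : Spor.IsoJ2 S) : RC S := by
  have hs := H715.Fpr.J2.simple hS
  have hc : Nat.card S = 604800 := H715.Fpr.J2.card hS
  exact rc_of_noCov hs (H273.PiSpor.not_comm hs hc (by norm_num)) (noCov S hS)

theorem row : Cfsg.Agent.H873.RG.RowX (fun S _ => Spor.IsoJ2 S) := fun S _ _ _ h _ => rc S h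

end Cfsg.Agent.H90.RC.JTwo
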