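import Cfsg.Agent.H898.J3Three
import Cfsg.Agent.H898.J3Cent

/-!
# `J₃`: every element `y` of order 3 has a conjugate `y'` with `y⁻¹ y'` of order 17 or 19 (helper90)

The 26 elements `E^k A_a` of order 3 of the Sylow subgroup are checked with nine conjugating elements.
-/

set_option autoImplicit false
set_option maxRecDepth 100000
set_option linter.unusedSectionVars false

namespace Cfsg.Agent.H90.RC.JThreeThree

open Cfsg.Spor Cfsg.Agent.J3.Core Cfsg.Agent.J3.Tab Cfsg.Agent.J3.Mono Cfsg.Agent.J3.Elts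
open Cfsg.Agent.J3.Nineteen (exists_scalar center_eq card_center)
open Cfsg.Agent.H898.J3Three

/-- scalar tables -/
def isSc (T : List ℕ) : Bool :=
  beqL (cols T) (cols (tS 0)) || (beqL (cols T) (cols (tS 1)) || beqL (cols T) (cols (tS 2)))
def p2 (T : List ℕ) : List ℕ := compT T T
def p8 (T : List ℕ) : List ℕ := p2 (p2 (p2 T))
def p16 (T : List ℕ) : List ℕ := p2 (p8 T)
def is17 (T : List ℕ) : Bool := isSc (compT (p16 T) T)
def is19 (T : List ℕ) : Bool := isSc (compT (p16 T) (compT T (p2 T)))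

/-- the element `i` -/
def u1 : F9 := (0, 1)

/-- the conjugating elements: `C B D_v C`, and `D_1 C D_i C D_1` for `v = 9` -/
def sT (v : ℕ) : List ℕ := bif Nat.beq v 9 then compT (tD (z9 3)) (compT tC (compT (tD (z9 1)) (compT tC (tD (z9 3)))))
  else compT (compT tC (tB u1)) (compT (tD (z9 v)) tC)
/-- their inverses -/
def sI (v : ℕ) : List ℕ :=
  bif Nat.beq v 9 then compT (p8 (tD (z9 3))) (compT tC (compT (p8 (tD (z9 1))) (compT tC (p8 (tD (z9 3))))))
  else compT (compT tC (p8 (tD (z9 v)))) (compT (tB (F9.inv u1)) tC)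

/-- the word -/
def wT (T : List ℕ) (v : ℕ) : List ℕ := compT (p2 T) (compT (sT v) (compT T (sI v)))

/-- the test for the element with table `T` -/
def test (T : List ℕ) (v : ℕ) : Bool :=
  Nat.ble 4 (appT (wT T v) 1) && (is17 (wT T v) || is19 (wT T v))

/-- the parameter of the conjugating element -/
def vt : List ℕ := [0, 5, 5, 4, 3, 1, 4, 1, 3, 9, 7, 5, 8, 6, 2, 4, 1, 3, 9, 5, 7, 4, 3, 1, 8, 2, 6]
def vv (k : Fin 3) (a : F9) : ℕ := get 0 vt (9 * k + idx a)

theorem chk_main : ∀ k : Fin 3, ∀ a w : F9, (!(cubeB (tab k a w) (tS 0)) || (isSc (tab k a w) || test (tab k a w) (vv k a))) = true := by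
  decide +kernel

theorem chk_inv : ∀ v : Fin 10, isSc (compT (sT v) (sI v)) = true := by decide +kernel

theorem u1_ne : (u1 : F9) ≠ 0 := by decide
theorem u1_inv : F9.inv u1 ≠ 0 := by decide

section

variable {F : Type*} [Field F] {ω : F} (H : Good ω) {s0 : threeJ3 F ω} (hs0 : mat ω s0 = ω • 1)
  {K : Type*} [Group K] {f : threeJ3 F ω →* K} (hk : f.ker = Subgroup.center (threeJ3 F ω))
include H hs0 hk

theorem f_s0 (n : ℕ) : f (s0 ^ n) = 1 := by
  rw [← MonoidHom.mem_ker, hk]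
  refine Subgroup.pow_mem _ ?_ n
  rw [Subgroup.mem_center_iff]
  intro g
  exact (s0_comm hs0 g).symm

theorem f_of_isSc {T : List ℕ} {g : threeJ3 F ω} (hT : RepG ω T g) (h : isSc T = true) : f g = 1 := by
  unfold isSc at h
  rw [Bool.or_eq_true, Bool.or_eq_true] at h
  have key : ∀ s : Fin 3, beqL (cols T) (cols (tS s)) = true → f g = 1 := by
    intro s hs
    rw [hT.ext (repG_s H hs0 s) (beqL_eq hs)]
    exact f_s0 H hs0 hk _
  rcases h with h | h | h
  · exact key 0 h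
  · exact key 1 h
  · exact key 2 h

theorem f_ne {T : List ℕ} {g : threeJ3 F ω} (hT : RepG ω T g) (hZ : ∀ c ∈ Subgroup.center (threeJ3 F ω), ∃ j : ℕ, c = s0 ^ j)
    (h : Nat.ble 4 (appT T 1) = true) : f g ≠ 1 := by
  intro h1
  rw [← MonoidHom.mem_ker, hk] at h1
  obtain ⟨j, hj⟩ := hZ g h1
  have h2 : s0 ^ j = s0 ^ (j % 3) := by
    conv_lhs => rw [← Nat.div_add_mod j 3, pow_add, pow_mul, s0_cube H hs0, one_pow, one_mul]
  have h3 := repG_s H hs0 ⟨j % 3, Nat.mod_lt _ (by norm_num)⟩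
  have h4 : g = s0 ^ ((⟨j % 3, Nat.mod_lt _ (by norm_num)⟩ : Fin 3) : ℕ) := by rw [hj, h2]
  rw [← h4] at h3
  have h5 := app_eq H hT h3 (n := 1) (by norm_num)
  rw [Nat.ble_eq, h5] at h
  have h6 : j % 3 < 3 := Nat.mod_lt _ (by norm_num)
  have h7 : ∀ s : Fin 3, appT (tS s) 1 < 4 := by decide
  exact absurd h (not_le.2 (h7 _))

theorem rep_p2 {T : List ℕ} {g : threeJ3 F ω} (hT : RepG ω T g) : RepG ω (p2 T) (g ^ 2) := by
  rw [pow_two]; exact hT.mul hT

theorem rep_p8 {T : List ℕ} {g : threeJ3 F ω} (hT : RepG ω T g) : RepG ω (p8 T) (g ^ 8) := by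
  have h := rep_p2 H hs0 hk (rep_p2 H hs0 hk (rep_p2 H hs0 hk hT))
  rw [← pow_mul, ← pow_mul] at h
  exact h

theorem rep_p16 {T : List ℕ} {g : threeJ3 F ω} (hT : RepG ω T g) : RepG ω (p16 T) (g ^ 16) := by
  have h := rep_p2 H hs0 hk (rep_p8 H hs0 hk hT)
  rw [← pow_mul] at h
  exact h

/-- the conjugating elements in the group -/
theorem exists_s (G : Gens F ω) (v : Fin 10) : ∃ g g' : threeJ3 F ω, RepG ω (sT v) g ∧ RepG ω (sI v) g' ∧ f g' = (f g)⁻¹ := by
  have hc := Cfsg.Agent.J3.Order.rC G H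
  have hb := Cfsg.Agent.J3.Order.rB G H u1 (u1_ne)
  have hb' := Cfsg.Agent.J3.Order.rB G H (F9.inv u1) u1_inv
  have hd := fun Z => Cfsg.Agent.J3.Order.rD G H Z
  obtain ⟨g, g', h1, h2⟩ : ∃ g g' : threeJ3 F ω, RepG ω (sT v) g ∧ RepG ω (sI v) g' := by
    unfold sT sI
    by_cases h9 : Nat.beq (v : ℕ) 9 = true
    · rw [h9, cond_true, cond_true]
      exact ⟨_, _, (hd _).mul (hc.mul ((hd _).mul (hc.mul (hd _)))), (rep_p8 H hs0 hk (hd _)).mul (hc.mul
        ((rep_p8 H hs0 hk (hd _)).mul (hc.mul (rep_p8 H hs0 hk (hd _)))))⟩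
    · rw [Bool.not_eq_true] at h9
      rw [h9, cond_false, cond_false]
      exact ⟨_, _, (hc.mul hb).mul ((hd _).mul hc), (hc.mul (rep_p8 H hs0 hk (hd _))).mul (hb'.mul hc)⟩
  refine ⟨g, g', h1, h2, ?_⟩
  have h3 := f_of_isSc H hs0 hk (h1.mul h2) (chk_inv v)
  rw [map_mul] at h3
  exact eq_inv_of_mul_eq_one_right h3

end

/-- the value `vv` is at most 9 -/
theorem vv_lt : ∀ k : Fin 3, ∀ a : F9, vv k a < 10 := by decide +kernel

/-- **every element `y` of order 3 of `J₃` has a conjugate `y'` with `y⁻¹ y'` of order 17 or 19** -/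
theorem exists_conj {K : Type*} [Group K] (h : IsoJ3 K) {y : K} (hy : orderOf y = 3) :
    ∃ s : K, orderOf (y⁻¹ * (s * y * s⁻¹)) = 17 ∨ orderOf (y⁻¹ * (s * y * s⁻¹)) = 19 := by
  obtain ⟨F, _, _, ω, hF, hω, ⟨e⟩⟩ := h
  have H := good_of_card hF hω
  obtain ⟨G⟩ := exists_gens hF H
  obtain ⟨s0, hs0⟩ := exists_scalar H G
  have hcard := Cfsg.Agent.J3.Order.card_threeJ3 hF H
  have hfin : Finite (threeJ3 F ω) := Nat.finite_of_card_ne_zero (by rw [hcard]; norm_num)
  let f : threeJ3 F ω →* K := e.symm.toMonoidHom.comp (QuotientGroup.mk' (Subgroup.center (threeJ3 F ω)))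
  have hf : Function.Surjective f := e.symm.surjective.comp (QuotientGroup.mk'_surjective _)
  have hk : f.ker = Subgroup.center _ := by
    ext x
    rw [MonoidHom.mem_ker]
    show e.symm (QuotientGroup.mk' _ x) = 1 ↔ _
    rw [map_eq_one_iff _ e.symm.injective]
    exact QuotientGroup.eq_one_iff x
  have hZ : ∀ c ∈ Subgroup.center (threeJ3 F ω), ∃ j : ℕ, c = s0 ^ j := by
    intro c hc
    rw [center_eq hF H hs0] at hc
    have hfo : IsOfFinOrder s0 := isOfFinOrder_of_finite s0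
    obtain ⟨j, hj⟩ := hfo.mem_powers_iff_mem_zpowers.2 hc
    exact ⟨j, hj.symm⟩
  have h3p : Fact (Nat.Prime 3) := ⟨Nat.prime_three⟩
  obtain ⟨g, rfl⟩ := hf y
  have hy3 : f g ^ 3 = 1 := orderOf_dvd_iff_pow_eq_one.1 hy.dvd
  have hy1 : f g ≠ 1 := by
    intro h1
    rw [h1, orderOf_one] at hy
    norm_num at hy
  have hg3 : g ^ 3 ∈ Subgroup.center (threeJ3 F ω) := by
    rw [← hk, MonoidHom.mem_ker, map_pow]
    exact hy3
  have hg31 := cube_eq_one hF H hg3
  have hP : IsPGroup 3 ↥(Subgroup.zpowers g) := by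
    rintro ⟨_, n, rfl⟩
    refine ⟨1, Subtype.ext ?_⟩
    show (g ^ n) ^ 3 ^ 1 = 1
    rw [pow_one, ← zpow_natCast (g ^ n), ← _root_.zpow_mul, mul_comm, _root_.zpow_mul, zpow_natCast, hg31, _root_.one_zpow]
  have hfac : (Nat.card (threeJ3 F ω)).factorization 3 = 6 := by
    rw [hcard, show (150698880 : ℕ) = 3 ^ 6 * 206720 by norm_num,
      Nat.factorization_mul (by norm_num) (by norm_num), Finsupp.add_apply, Nat.prime_three.factorization_pow,
      Finsupp.single_eq_same, Nat.factorization_eq_zero_of_not_dvd (by norm_num)]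
  let Q : Sylow 3 (threeJ3 F ω) := Sylow.ofCard (P3 G H hs0) (by rw [card_P3, hfac]; norm_num)
  obtain ⟨Q', hQ'⟩ := hP.exists_le_sylow
  obtain ⟨q, hh⟩ := MulAction.exists_smul_eq (threeJ3 F ω) Q' Q
  have h1 : q * g * q⁻¹ ∈ P3 G H hs0 := by
    have h2 : q * g * q⁻¹ ∈ (Q : Subgroup (threeJ3 F ω)) := by
      rw [← hh, Sylow.coe_subgroup_smul]
      exact Subgroup.smul_mem_pointwise_smul g (MulAut.conj q) _ (hQ' (Subgroup.mem_zpowers g))
    exact h2
  obtain ⟨s, k, a, w, h2⟩ := h1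
  let k' : Fin 3 := ⟨k % 3, Nat.mod_lt _ (by norm_num)⟩
  set x := el G s0 0 (k % 3) a w with hx
  have hel : el G s0 s k a w = s0 ^ s * x := by
    rw [el_mod G H hs0, show s0 ^ s = s0 ^ (s % 3) by
      conv_lhs => rw [← Nat.div_add_mod s 3, pow_add, pow_mul, s0_cube H hs0, one_pow, one_mul]]
    rw [hx]
    unfold el
    rw [pow_zero, one_mul]
  have hfx : f x = f q * f g * (f q)⁻¹ := by
    rw [← map_inv, ← map_mul, ← map_mul, h2, hel, map_mul, f_s0 H hs0 hk, one_mul]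
  have hx3 : x ^ 3 = 1 := by
    apply cube_eq_one hF H
    rw [← hk, MonoidHom.mem_ker, map_pow, hfx, conj_pow, hy3]
    group
  have hx1 : f x ≠ 1 := by
    intro h5
    apply hy1
    rw [hfx, mul_inv_eq_one] at h5
    simpa using h5
  have hR : RepG ω (tab k' a w) x := repG_el G H hs0 k' a w
  have hcube : cubeB (tab k' a w) (tS 0) = true := by
    have h5 : RepG ω (tS 0) (x ^ 3) := by
      rw [hx3]; exact repG_one H
    have h6 : RepG ω (compT (tab k' a w) (compT (tab k' a w) (tab k' a w))) (x ^ 3) := by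
      have := hR.mul (hR.mul hR)
      have e' : x ^ 3 = x * (x * x) := by rw [pow_succ', pow_two]
      rwa [e']
    unfold cubeB
    rw [List.all_eq_true]
    intro i hi
    rw [List.mem_range] at hi
    have h8 : 2 ^ (2 * i) < 2 ^ 18 := Nat.pow_lt_pow_right (by norm_num) (by omega)
    have h9 := app_eq H h6 h5 h8
    rw [appT_compT, appT_compT] at h9
    rw [h9]
    exact Nat.beq_refl _
  have hc := chk_main k' a w
  rw [hcube, Bool.not_true, Bool.false_or, Bool.or_eq_true] at hc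
  have hc' := hc.resolve_left fun h5 => hx1 (f_of_isSc H hs0 hk hR h5)
  unfold test at hc'
  rw [Bool.and_eq_true, Bool.or_eq_true] at hc'
  obtain ⟨hn, hc'⟩ := hc'
  obtain ⟨t, t', ht, ht', htt⟩ := exists_s H hs0 hk G ⟨vv k' a, vv_lt k' a⟩
  have hW : RepG ω (wT (tab k' a w) (vv k' a)) (x ^ 2 * (t * (x * t'))) :=
    (rep_p2 H hs0 hk hR).mul (ht.mul (hR.mul ht'))
  have hWf : f (x ^ 2 * (t * (x * t'))) = (f x)⁻¹ * (f t * f x * (f t)⁻¹) := by
    rw [map_mul, map_mul, map_mul, htt, map_pow]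
    have h5 : f x ^ 2 = (f x)⁻¹ := by
      rw [eq_inv_iff_mul_eq_one, ← pow_succ, ← map_pow, hx3, map_one]
    rw [h5]; group
  have hne : (f x)⁻¹ * (f t * f x * (f t)⁻¹) ≠ 1 := by
    rw [← hWf]
    exact f_ne H hs0 hk hW hZ hn
  have hord : orderOf ((f x)⁻¹ * (f t * f x * (f t)⁻¹)) = 17 ∨ orderOf ((f x)⁻¹ * (f t * f x * (f t)⁻¹)) = 19 := by
    rcases hc' with h5 | h5
    · left
      have : Fact (Nat.Prime 17) := ⟨by norm_num⟩
      refine orderOf_eq_prime ?_ hne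
      have h6 := f_of_isSc H hs0 hk ((rep_p16 H hs0 hk hW).mul hW) h5
      rw [← pow_succ, map_pow, hWf] at h6
      exact h6
    · right
      have : Fact (Nat.Prime 19) := ⟨by norm_num⟩
      refine orderOf_eq_prime ?_ hne
      have h6 := f_of_isSc H hs0 hk ((rep_p16 H hs0 hk hW).mul (hW.mul (rep_p2 H hs0 hk hW))) h5
      rw [← pow_succ', ← pow_add, map_pow, hWf] at h6
      exact h6
  refine ⟨(f q)⁻¹ * f t * f q, ?_⟩
  have hfin2 : (f g)⁻¹ * ((f q)⁻¹ * f t * f q * f g * ((f q)⁻¹ * f t * f q)⁻¹) =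
      MulAut.conj (f q)⁻¹ ((f x)⁻¹ * (f t * f x * (f t)⁻¹)) := by
    rw [hfx, MulAut.conj_apply]
    group
  rw [hfin2, MulEquiv.orderOf_eq]
  exact hord

end Cfsg.Agent.H90.RC.JThreeThree
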