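import Cfsg.Agent.H90.RC.Tools
import Cfsg.Agent.H90.RC.JThreeThree
import Cfsg.Agent.H326.TwoCyc.JOneThree
import Cfsg.Agent.H273.PiSpor.RowJ3
import Cfsg.Agent.H296.JT.Five
import Cfsg.Agent.H873.RG.Defs

/-!
# S3509, the row `J₃` (helper90)

Bounds for the fixed point ratios of the elements of prime order of `Aut J₃` (proper subgroups have index at least 323):
`2 : 36/323`, `3 : 9/17`, `5 : 30/323`, `17 : 1/19`, `19 : 1/17`; the sum is less than one.
-/

set_option autoImplicit false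
set_option maxRecDepth 100000
open Cfsg

namespace Cfsg.Agent.H90.RC.JThree

open MulAction Subgroup Cfsg.Agent.H106.RC Cfsg.Agent.H345.RG Cfsg.Agent.H90.RC
open Cfsg.Agent.H326.TwoCyc Cfsg.Agent.H940.Eng Cfsg.Agent.H940.Eng.D

section facts

variable {K : Type} [Group K]

theorem index_ge (h : Spor.IsoJ3 K) {H : Subgroup K} (hH : H ≠ ⊤) : 323 ≤ H.index :=
  lt_index (H715.Fpr.J3.ctx base0 h) (N := 322) (by decide +kernel) hH

theorem top_of_323 (h : Spor.IsoJ3 K) {H : Subgroup K} (h17 : 17 ∣ Nat.card H) (h19 : 19 ∣ Nat.card H) : H = ⊤ := by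
  rcases (H715.Fpr.J3.ctx base0 h).over (a := 17) (b := 19) [(2, 7), (3, 5), (5, 1)] [] [] 0 (by decide +kernel) h17 h19
    (fun p hp => absurd hp List.not_mem_nil) with h1 | h1
  · exact h1
  · exact absurd h1 List.not_mem_nil

theorem primes (h : Spor.IsoJ3 K) [Finite K] {p : ℕ} (hp : p.Prime) {x : K} (hx : orderOf x = p) :
    p = 2 ∨ p = 3 ∨ p = 5 ∨ p = 17 ∨ p = 19 := by
  have hc := (H898.J3Cent.base h).2.1
  have h1 : p ∣ 50232960 := by rw [← hc, ← hx]; exact orderOf_dvd_natCard x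
  have h2 : (50232960 : ℕ) = 2 ^ 7 * 3 ^ 5 * 5 * 17 * 19 := by norm_num
  rw [h2, hp.dvd_mul, hp.dvd_mul, hp.dvd_mul, hp.dvd_mul] at h1
  rcases h1 with (((h1 | h1) | h1) | h1) | h1
  · exact Or.inl ((Nat.prime_dvd_prime_iff_eq hp Nat.prime_two).1 (hp.dvd_of_dvd_pow h1))
  · exact Or.inr (Or.inl ((Nat.prime_dvd_prime_iff_eq hp Nat.prime_three).1 (hp.dvd_of_dvd_pow h1)))
  · exact Or.inr (Or.inr (Or.inl ((Nat.prime_dvd_prime_iff_eq hp Nat.prime_five).1 h1)))
  · exact Or.inr (Or.inr (Or.inr (Or.inl ((Nat.prime_dvd_prime_iff_eq hp (by norm_num)).1 h1))))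
  · exact Or.inr (Or.inr (Or.inr (Or.inr ((Nat.prime_dvd_prime_iff_eq hp (by norm_num)).1 h1))))

theorem center_bot (h : Spor.IsoJ3 K) [Finite K] : center K = ⊥ := by
  obtain ⟨hs, hcK, -⟩ := H898.J3Cent.base h
  have := hs
  rcases (inferInstance : (center K).Normal).eq_bot_or_eq_top with h5 | h5
  · exact h5
  · exfalso
    apply H273.PiSpor.not_comm hs hcK (by norm_num)
    refine ⟨⟨fun a b => ?_⟩⟩
    have h6 : b ∈ center K := by rw [h5]; trivial
    exact mem_center_iff.1 h6 a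

/-- every involution inverts an element of order 17 -/
theorem inv_seventeen (h : Spor.IsoJ3 K) [Finite K] {t : K} (ht1 : t ≠ 1) (ht : t * t = 1) :
    ∃ (y : K) (a : ℕ), orderOf y = 17 ∧ t * y * t⁻¹ = y ^ a ∧ ¬ a ≡ 1 [MOD 17] := by
  obtain ⟨-, z, Q, v, ρ, n, u, F⟩ := KFacts.J3.exists_facts h
  have hcK := F.card_K
  have f17 : Fact (Nat.Prime 17) := ⟨by norm_num⟩
  have f2 : Fact (Nat.Prime 2) := ⟨Nat.prime_two⟩
  obtain ⟨y, hy⟩ := exists_prime_orderOf_dvd_card' (G := K) 17 (by rw [hcK]; norm_num)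
  obtain ⟨h17, hN⟩ := H898.J3Cent.seventeen h hy
  obtain ⟨t0, ht0⟩ := exists_prime_orderOf_dvd_card' (G := ↥(normalizer ((zpowers y : Subgroup K) : Set K))) 2 (by
    rw [hN]; norm_num)
  have ht0' : orderOf (t0 : K) = 2 := by rw [Subgroup.orderOf_coe, ht0]
  have h1 : (t0 : K) * y * (t0 : K)⁻¹ ∈ zpowers y := (mem_normalizer_iff.1 t0.2 y).1 (mem_zpowers y)
  obtain ⟨a, ha⟩ := ((isOfFinOrder_of_finite y).mem_powers_iff_mem_zpowers.2 h1)
  have ha' : y ^ a = (t0 : K) * y * (t0 : K)⁻¹ := ha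
  have hne : ¬ a ≡ 1 [MOD 17] := by
    intro hc
    have h2 : y ^ a = y := by
      conv_rhs => rw [← pow_one y]
      rw [pow_eq_pow_iff_modEq, hy]
      exact hc
    rw [h2, eq_mul_inv_iff_mul_eq] at ha'
    have h3 : (t0 : K) ∈ centralizer ({y} : Set K) := mem_centralizer_singleton_iff.2 ha'.symm
    have h4 := Subgroup.orderOf_dvd_natCard _ h3
    rw [h17, ht0'] at h4
    norm_num at h4
  obtain ⟨g, hg⟩ := F.one t ht1 ht
  obtain ⟨g0, hg0⟩ := F.one (t0 : K) (fun h2 => by rw [h2, orderOf_one] at ht0'; norm_num at ht0') (by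
    rw [← pow_two]; exact orderOf_dvd_iff_pow_eq_one.1 ht0'.dvd)
  have hc : t = (g * g0⁻¹) * t0 * (g * g0⁻¹)⁻¹ := by
    rw [← hg, ← hg0]; group
  refine ⟨(g * g0⁻¹) * y * (g * g0⁻¹)⁻¹, a, by rw [H209.PiSpor.orderOf_conj', hy], ?_, hne⟩
  rw [hc, conj_pow, ha']
  group

/-- an outer automorphism of order 2 fixing an element of order 17 -/
theorem exists_fix (h : Spor.IsoJ3 K) [Finite K] : ∃ w : MulAut K, orderOf w = 2 ∧
    w ∉ (MulAut.conj : K →* MulAut K).range ∧ ∃ y : K, orderOf y = 17 ∧ w y = y := by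
  obtain ⟨hi, β, hβ, y, hy, hβy⟩ := H273.PiSpor.fix17 h
  have hsq : ∀ α : MulAut K, α * α ∈ (MulAut.conj : K →* MulAut K).range := fun α => Subgroup.mul_self_mem_of_index_two hi α
  obtain ⟨a, m, hm, ham⟩ := Nat.exists_eq_two_pow_mul_odd (n := orderOf β) (orderOf_pos β).ne'
  set w : MulAut K := β ^ m with hw
  have hwo : w ∉ (MulAut.conj : K →* MulAut K).range := by
    intro h1
    obtain ⟨t, ht⟩ := hm
    apply hβ
    have h2 : β ^ (2 * t) ∈ (MulAut.conj : K →* MulAut K).range := by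
      rw [pow_mul]
      exact pow_mem (by rw [pow_two]; exact hsq β) t
    have h3 : β = w * (β ^ (2 * t))⁻¹ := by
      rw [hw, ht, pow_succ', mul_assoc, mul_inv_cancel, mul_one]
    rw [h3]
    exact mul_mem h1 (inv_mem h2)
  have hw2 : w ^ 2 ^ a = 1 := by
    rw [hw, ← pow_mul, mul_comm, ← ham, pow_orderOf_eq_one]
  have hpow : ∀ n : ℕ, (β ^ n) y = y := by
    intro n
    induction n with
    | zero => rfl
    | succ n ih => rw [pow_succ', MulAut.mul_apply, ih, hβy]
  have hwy : w y = y := hpow m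
  obtain ⟨n, hn⟩ := hsq w
  have hn1 : n = 1 := by
    have h1 : n ∈ centralizer ({y} : Set K) := by
      rw [mem_centralizer_singleton_iff]
      have h2 : (MulAut.conj n) y = y := by
        rw [hn, MulAut.mul_apply, hwy, hwy]
      rw [MulAut.conj_apply, mul_inv_eq_iff_eq_mul] at h2
      exact h2
    have h2 := Subgroup.orderOf_dvd_natCard _ h1
    rw [(H898.J3Cent.seventeen h hy).1] at h2
    have h3 : n ^ 2 ^ a = 1 := by
      apply H209.PiSpor.conj_inj (center_bot h)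
      rw [map_pow, map_one, hn, ← pow_two, ← pow_mul, mul_comm, pow_mul, hw2, one_pow]
    have h4 : orderOf n ∣ 2 ^ a := orderOf_dvd_of_pow_eq_one h3
    have h6 : Nat.Coprime (2 ^ a) 17 := Nat.Coprime.pow_left _ (by norm_num)
    exact orderOf_eq_one_iff.1 (Nat.eq_one_of_dvd_coprimes h6 h4 h2)
  have hww : w * w = 1 := by rw [← hn, hn1, map_one]
  refine ⟨w, orderOf_eq_prime (by rw [pow_two, hww]) ?_, hwo, y, hy, hwy⟩
  intro h1
  exact hwo (h1 ▸ one_mem _)

/-- every outer automorphism of order 2 inverts an element of order 19 -/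
theorem inv_nineteen (h : Spor.IsoJ3 K) [Finite K] {x : MulAut K} (hx2 : orderOf x = 2)
    (hxi : x ∉ (MulAut.conj : K →* MulAut K).range) :
    ∃ (y : K) (a : ℕ), orderOf y = 19 ∧ x y = y ^ a ∧ ¬ a ≡ 1 [MOD 19] := by
  obtain ⟨hi, β, hβ, -⟩ := H273.PiSpor.fix17 h
  obtain ⟨w, hw, hwo, y, hy, hwy⟩ := H273.PiSpor.exists_w h hi hβ
  obtain ⟨w', hw', hwo', u, hu, hwu⟩ := exists_fix h
  have key : ∀ (w : MulAut K) (y k : K), x = H216.Pi.cj w k → x (k * y * k⁻¹) = k * w y * k⁻¹ := by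
    intro w y k hk
    rw [hk]
    have h1 : (MulAut.conj k)⁻¹ = MulAut.conj k⁻¹ := (map_inv _ _).symm
    unfold H216.Pi.cj
    rw [h1, MulAut.mul_apply, MulAut.mul_apply, MulAut.conj_apply, MulAut.conj_apply]
    congr 2
    have h2 : k⁻¹ * (k * y * k⁻¹) * k⁻¹⁻¹ = y := by group
    rw [h2]
  obtain ⟨k, hk⟩ := H273.PiSpor.J3Out.one_class h hw hx2 hwo hxi
  obtain ⟨k', hk'⟩ := H273.PiSpor.J3Out.one_class h hw' hx2 hwo' hxi
  have hxy := key w y k hk
  have hxu := key w' u k' hk'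
  rw [hwu] at hxu
  obtain ⟨a, ha⟩ := ((isOfFinOrder_of_finite y).mem_powers_iff_mem_zpowers.2 hwy)
  have ha' : y ^ a = w y := ha
  refine ⟨k * y * k⁻¹, a, by rw [H209.PiSpor.orderOf_conj', hy], by rw [hxy, conj_pow, ha'], ?_⟩
  intro hc
  have h2 : y ^ a = y := by
    conv_rhs => rw [← pow_one y]
    rw [pow_eq_pow_iff_modEq, hy]
    exact hc
  rw [← ha', h2] at hxy
  -- `x` fixes elements of order 17 and 19
  let L : Subgroup K := (x.toMonoidHom).eqLocus (MonoidHom.id K)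
  have hL : L = ⊤ := by
    apply top_of_323 h
    · have h3 : k' * u * k'⁻¹ ∈ L := hxu
      have h4 := Subgroup.orderOf_dvd_natCard _ h3
      rwa [H209.PiSpor.orderOf_conj', hu] at h4
    · have h3 : k * y * k⁻¹ ∈ L := hxy
      have h4 := Subgroup.orderOf_dvd_natCard _ h3
      rwa [H209.PiSpor.orderOf_conj', hy] at h4
  apply hxi
  have h5 : x = 1 := by
    ext g
    have h6 : g ∈ L := by rw [hL]; trivial
    exact h6
  rw [h5]
  exact one_mem _

end facts

/-- the bounds -/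
def β (p : ℕ) : ℚ := if p = 2 then 36 / 323 else if p = 3 then 9 / 17 else if p = 5 then 30 / 323 else
  if p = 17 then 1 / 19 else 1 / 17

theorem noCov (S : Type) [Group S] [Finite S] (hS : Spor.IsoJ3 S) : NoCov S := by
  refine noCov_of_bounds {2, 3, 5, 17, 19} β (by
    intro p _
    unfold β
    split_ifs <;> norm_num) (by
    rw [Finset.sum_insert (by decide), Finset.sum_insert (by decide), Finset.sum_insert (by decide),
      Finset.sum_insert (by decide), Finset.sum_singleton]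
    unfold β
    norm_num) ?_
  intro G _ _ Ω _ _ _ N hE e p x hp hxp hx1
  have hN : Spor.IsoJ3 N := by
    obtain ⟨F, i1, i2, ω, h1, h2, ⟨e'⟩⟩ := hS
    exact ⟨F, i1, i2, ω, h1, h2, ⟨e.trans e'⟩⟩
  have hfin : Finite N := inferInstance
  have hi := S2067.index_le N hN
  have hB : Big Ω N 323 := big_of_index hE fun H hH => index_ge hN hH
  have fp := Fact.mk hp
  have hxo : orderOf x = p := orderOf_eq_prime hxp hx1
  have h17 : ∀ y ∈ N, orderOf y = 17 → fpr Ω y ≤ 1 / 19 := by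
    intro y hy ho
    have h1 := F1 (m := 323) (by norm_num) hB hE.norm y
    rw [card_inf_cent hy, (H898.J3Cent.seventeen hN (by rw [Subgroup.orderOf_mk, ho])).1] at h1
    refine h1.trans (by norm_num)
  have h19 : ∀ y ∈ N, orderOf y = 19 → fpr Ω y ≤ 1 / 17 := by
    intro y hy ho
    have h1 := F1 (m := 323) (by norm_num) hB hE.norm y
    rw [card_inf_cent hy, H898.J3Cent.card_nineteen hN (by rw [Subgroup.orderOf_mk, ho])] at h1
    refine h1.trans (by norm_num)
  -- the involutions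
  have h2 : p = 2 → fpr Ω x ≤ 36 / 323 := by
    rintro rfl
    have hxx : x * x = 1 := by rw [← pow_two, hxp]
    by_cases hxN : x ∈ N
    · obtain ⟨y, a, hy, hya, ha⟩ := inv_seventeen hN (t := (⟨x, hxN⟩ : N)) (fun h => hx1 (congrArg Subtype.val h))
        (Subtype.ext hxx)
      have h3 := F3 (Ω := Ω) (x := x) (y := (y : G)) (r := 17) (a := a) (by norm_num) (by
        rw [← Subgroup.coe_pow, orderOf_dvd_iff_pow_eq_one.1 hy.dvd, Subgroup.coe_one]) (congrArg Subtype.val hya) ha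
      have h4 := h17 y y.2 (by rw [Subgroup.orderOf_coe, hy])
      push_cast at h3
      linarith
    · have hn := hE.norm
      have hαo : (MulAut.conjNormal x : MulAut N) ∉ (MulAut.conj : N →* MulAut N).range := fun h => hxN (mem_of_conj hE h)
      have hα2 : orderOf (MulAut.conjNormal x : MulAut N) = 2 := by
        refine orderOf_eq_prime (by rw [← map_pow, hxp, map_one]) fun h => hαo (by rw [h]; exact one_mem _)
      obtain ⟨y, a, hy, hya, ha⟩ := inv_nineteen hN hα2 hαo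
      have h5 : x * (y : G) * x⁻¹ = (y : G) ^ a := by
        have h6 := congrArg (fun u : N => (u : G)) hya
        simpa [MulAut.conjNormal_apply] using h6
      have h3 := F3 (Ω := Ω) (x := x) (y := (y : G)) (r := 19) (a := a) (by norm_num) (by
        rw [← Subgroup.coe_pow, orderOf_dvd_iff_pow_eq_one.1 hy.dvd, Subgroup.coe_one]) h5 ha
      have h4 := h19 y y.2 (by rw [Subgroup.orderOf_coe, hy])
      push_cast at h3
      linarith
  by_cases hp2 : p = 2
  · subst hp2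
    exact ⟨by decide, by unfold β; simpa using h2 rfl⟩
  have hxN : x ∈ N := mem_of_odd hE hi (hp.odd_of_ne_two hp2) hxp
  have hxo' : orderOf (⟨x, hxN⟩ : N) = p := by rw [Subgroup.orderOf_mk, hxo]
  rcases primes hN hp hxo' with rfl | rfl | rfl | rfl | rfl
  · exact absurd rfl hp2
  · refine ⟨by decide, ?_⟩
    obtain ⟨s, hs⟩ := JThreeThree.exists_conj hN hxo'
    have h3 := two_fpr (Ω := Ω) x (s : G)
    have h4 : fpr Ω (x⁻¹ * ((s : G) * x * (s : G)⁻¹)) ≤ 1 / 17 := by
      have hmem : x⁻¹ * ((s : G) * x * (s : G)⁻¹) ∈ N :=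
        N.mul_mem (N.inv_mem hxN) (N.mul_mem (N.mul_mem s.2 hxN) (N.inv_mem s.2))
      have e1 : orderOf (x⁻¹ * ((s : G) * x * (s : G)⁻¹)) = orderOf ((⟨x, hxN⟩ : N)⁻¹ * (s * ⟨x, hxN⟩ * s⁻¹)) := by
        rw [← Subgroup.orderOf_coe]
        rfl
      rcases hs with hs | hs
      · exact (h17 _ hmem (e1.trans hs)).trans (by norm_num)
      · exact h19 _ hmem (e1.trans hs)
    unfold β
    norm_num
    linarith
  · refine ⟨by decide, ?_⟩
    have h1 := F1 (m := 323) (by norm_num) hB hE.norm x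
    rw [card_inf_cent hxN, (H296.JT.cn5 hN hxo').1] at h1
    refine h1.trans (by unfold β; norm_num)
  · exact ⟨by decide, by unfold β; simpa using h17 x hxN hxo⟩
  · exact ⟨by decide, by unfold β; simpa using h19 x hxN hxo⟩

/-- **the row `J₃`** -/
theorem rc (S : Type) [Group S] [Finite S] (hS : Spor.IsoJ3 S) : RC S := by
  obtain ⟨hs, hcK, -⟩ := H898.J3Cent.base hS
  exact rc_of_noCov hs (H273.PiSpor.not_comm hs hcK (by norm_num)) (noCov S hS)

theorem row : Cfsg.Agent.H873.RG.RowX (fun S _ => Spor.IsoJ3 S) := fun S _ _ _ h _ => rc S h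

end Cfsg.Agent.H90.RC.JThree
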