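import Cfsg.Agent.H90.RC.JTwoIn
import Cfsg.Agent.H269.CubeJ2
import Cfsg.Agent.H326.TwoCyc.JOneThree

/-!
# S3509: `J₂`, data on 100 points (helper90)

* `three_gen` : three conjugates of an element of order 3 generate `J₂`;
* `out_model` : an outer automorphism with square 1 inverts an element of order 7 and fixes no element of order 5
  (the classes 5A, 5B and 5C, 5D are swapped).
-/

set_option autoImplicit false
set_option maxRecDepth 100000

namespace Cfsg.Agent.H90.RC.JTwo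

open Cfsg Subgroup MulAction Equiv Cfsg.Agent.H1 Cfsg.Agent.H345.RG
open Cfsg.Agent.SporadicA.PermTab Cfsg.Agent.SporadicA.J2Data Cfsg.Agent.SporadicA.J2Hundred
open Cfsg.Agent.J2.HundredGens Cfsg.Agent.H1.J2Cls Cfsg.Agent.H1.J2Cover
open Cfsg.Agent.H121.OZ.JTwoCls (ol ov order_r type classes)
open Cfsg.Agent.H326.TwoCyc (base0)

/-! ### three conjugates of an element of order 3 -/

theorem mem_flat {K : Subgroup G} : ∀ Ls : List (List ℕ), (∀ L ∈ Ls, gw L ∈ K) → gw Ls.flatten ∈ K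
  | [], _ => by rw [List.flatten_nil, gw_nil]; exact K.one_mem
  | L :: Ls, h => by
    rw [List.flatten_cons, gw_append]
    exact K.mul_mem (h L (List.mem_cons_self ..)) (mem_flat Ls fun M hM => h M (List.mem_cons_of_mem _ hM))

theorem px_eq : (⟨H715.Fpr.J2.px, H715.Fpr.J2.px_mem⟩ : G) = gw [4, 3, 1, 2, 3, 1, 2, 3] := by
  apply Subtype.ext
  apply H715.Fpr.J2.eq_of_val
  intro i
  have h1 : (((gw [4, 3, 1, 2, 3, 1, 2, 3] : G) : Perm (Fin 100)) i : ℕ) = run [4, 3, 1, 2, 3, 1, 2, 3] i :=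
    (pw_val _ i).symm ▸ rfl
  rw [h1]
  have h2 : allB (fun i => Nat.beq (lk H715.Fpr.J2.tX i) (run [4, 3, 1, 2, 3, 1, 2, 3] i)) 100 = true := by decide +kernel
  exact Nat.eq_of_beq_eq_true ((allB_iff _ _).1 h2 i i.2)

theorem py_eq : (⟨H715.Fpr.J2.py, H715.Fpr.J2.py_mem⟩ : G) = gw [2, 1, 0] := by
  apply Subtype.ext
  apply H715.Fpr.J2.eq_of_val
  intro i
  have h1 : (((gw [2, 1, 0] : G) : Perm (Fin 100)) i : ℕ) = run [2, 1, 0] i := (pw_val _ i).symm ▸ rfl
  rw [h1]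
  have h2 : allB (fun i => Nat.beq (lk H715.Fpr.J2.tY i) (run [2, 1, 0] i)) 100 = true := by decide +kernel
  exact Nat.eq_of_beq_eq_true ((allB_iff _ _).1 h2 i i.2)

/-- the blocks: the conjugates and their inverses -/
def bl (X C D : List ℕ) (k : ℕ) : List ℕ :=
  [X, C ++ (X ++ C.reverse), D ++ (X ++ D.reverse), X.reverse, (C ++ (X ++ C.reverse)).reverse,
    (D ++ (X ++ D.reverse)).reverse].getD k []

theorem gen_of (X C D : List ℕ) (A B : List ℕ)
    (hA : eqW (A.map (bl X C D)).flatten [4, 3, 1, 2, 3, 1, 2, 3] = true)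
    (hB : eqW (B.map (bl X C D)).flatten [2, 1, 0] = true) : Gen (gw X) [1, gw C, gw D] = ⊤ := by
  have m0 : gw X ∈ Gen (gw X) [1, gw C, gw D] := subset_closure ⟨1, by simp, by group⟩
  have m1 : gw (C ++ (X ++ C.reverse)) ∈ Gen (gw X) [1, gw C, gw D] :=
    subset_closure ⟨gw C, by simp, by rw [gw_append, gw_append, gw_reverse]; group⟩
  have m2 : gw (D ++ (X ++ D.reverse)) ∈ Gen (gw X) [1, gw C, gw D] :=
    subset_closure ⟨gw D, by simp, by rw [gw_append, gw_append, gw_reverse]; group⟩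
  have hb : ∀ k, gw (bl X C D k) ∈ Gen (gw X) [1, gw C, gw D] := by
    intro k
    match k with
    | 0 => exact m0
    | 1 => exact m1
    | 2 => exact m2
    | 3 => show gw X.reverse ∈ _; rw [gw_reverse]; exact inv_mem m0
    | 4 => show gw (C ++ (X ++ C.reverse)).reverse ∈ _; rw [gw_reverse]; exact inv_mem m1
    | 5 => show gw (D ++ (X ++ D.reverse)).reverse ∈ _; rw [gw_reverse]; exact inv_mem m2
    | (n + 6) => show gw [] ∈ _; rw [gw_nil]; exact one_mem _
  have hall : ∀ A : List ℕ, gw (A.map (bl X C D)).flatten ∈ Gen (gw X) [1, gw C, gw D] := by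
    intro A
    apply mem_flat
    intro L hL
    obtain ⟨k, -, rfl⟩ := List.mem_map.1 hL
    exact hb k
  rw [eq_top_iff, ← H715.Fpr.J2.gen base0, closure_le]
  rintro z (rfl | rfl)
  · show (⟨H715.Fpr.J2.px, H715.Fpr.J2.px_mem⟩ : G) ∈ _
    rw [px_eq, ← eq_of_eqW hA]
    exact hall A
  · show (⟨H715.Fpr.J2.py, H715.Fpr.J2.py_mem⟩ : G) ∈ _
    rw [py_eq, ← eq_of_eqW hB]
    exact hall B

theorem gen4 : Gen (gw (rL 4)) [1, gw [3], gw [4, 3]] = ⊤ :=
  gen_of (rL 4) [3] [4, 3] [5, 1, 2, 0, 1, 2, 0, 1, 2, 0] [3, 4, 0, 4] (by decide +kernel) (by decide +kernel)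

theorem gen6 : Gen (gw (rL 6)) [1, gw [2], gw [1, 2]] = ⊤ :=
  gen_of (rL 6) [2] [1, 2] [5, 4, 3, 5, 4, 3, 5, 3, 4] [5, 0, 5, 1, 3, 2, 4, 0, 5, 0] (by decide +kernel)
    (by decide +kernel)

section conj

variable {K K' : Type*} [Group K] [Group K']

theorem Gen_conj (x c : K) (L : List K) :
    Gen (c * x * c⁻¹) (L.map fun l => c * l * c⁻¹) = (Gen x L).map (MulAut.conj c).toMonoidHom := by
  unfold Gen
  rw [MonoidHom.map_closure]
  congr 1
  ext y
  constructor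
  · rintro ⟨l, hl, rfl⟩
    obtain ⟨m, hm, rfl⟩ := List.mem_map.1 hl
    refine ⟨m * x * m⁻¹, ⟨m, hm, rfl⟩, ?_⟩
    show c * (m * x * m⁻¹) * c⁻¹ = _
    group
  · rintro ⟨_, ⟨m, hm, rfl⟩, rfl⟩
    refine ⟨c * m * c⁻¹, List.mem_map.2 ⟨m, hm, rfl⟩, ?_⟩
    show c * (m * x * m⁻¹) * c⁻¹ = _
    group

theorem Gen_map (e : K ≃* K') (x : K) (L : List K) : Gen (e x) (L.map e) = (Gen x L).map e.toMonoidHom := by
  unfold Gen
  rw [MonoidHom.map_closure]
  congr 1
  ext y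
  constructor
  · rintro ⟨l, hl, rfl⟩
    obtain ⟨m, hm, rfl⟩ := List.mem_map.1 hl
    exact ⟨m * x * m⁻¹, ⟨m, hm, rfl⟩, by simp⟩
  · rintro ⟨_, ⟨m, hm, rfl⟩, rfl⟩
    exact ⟨e m, List.mem_map.2 ⟨m, hm, rfl⟩, by simp⟩

/-- three conjugates of `x` generate the group -/
def G3 (x : K) : Prop := ∃ c d : K, Gen x [1, c, d] = ⊤

theorem G3.conj {x : K} (h : G3 x) (c : K) : G3 (c * x * c⁻¹) := by
  obtain ⟨a, b, hab⟩ := h
  refine ⟨c * a * c⁻¹, c * b * c⁻¹, ?_⟩
  have h1 := Gen_conj x c [1, a, b]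
  rw [hab] at h1
  simp only [List.map_cons, List.map_nil, mul_one, mul_inv_cancel] at h1
  rw [h1, ← MonoidHom.range_eq_map, MonoidHom.range_eq_top]
  exact (MulAut.conj c).surjective

theorem G3.map {x : K} (h : G3 x) (e : K ≃* K') : G3 (e x) := by
  obtain ⟨a, b, hab⟩ := h
  refine ⟨e a, e b, ?_⟩
  have h1 := Gen_map e x [1, a, b]
  rw [hab] at h1
  simp only [List.map_cons, List.map_nil, map_one] at h1
  rw [h1, ← MonoidHom.range_eq_map, MonoidHom.range_eq_top]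
  exact e.surjective

end conj

theorem three_model {x : G} (hx : orderOf x = 3) : G3 x := by
  obtain ⟨j, hj, ho, -⟩ := type x
  obtain ⟨c, rfl⟩ := isConj_iff.1 hj
  rw [hx] at ho
  apply G3.conj
  have key : ∀ j : Fin 21, 3 = ov j → j = 4 ∨ j = 6 := by decide +kernel
  rcases key j ho with rfl | rfl
  · exact ⟨_, _, gen4⟩
  · exact ⟨_, _, gen6⟩

theorem three_gen {K : Type*} [Group K] (h : Spor.IsoJ2 K) {x : K} (hx : orderOf x = 3) : G3 x := by
  obtain ⟨E⟩ := Cfsg.Agent.J2.HundredGens.J2_iso Cfsg.Agent.S1619.result.2.2.2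
  obtain ⟨e⟩ := h
  have h1 : orderOf ((e.trans E) x) = 3 := by rw [MulEquiv.orderOf_eq, hx]
  have h2 := (three_model h1).map (e.trans E).symm
  rwa [MulEquiv.symm_apply_apply] at h2

/-! ### outer involutions -/

open Cfsg.Agent.H269.CubeJ2Data Cfsg.Agent.H269.CubeTools Cfsg.Agent.H269.CubeJ2

/-- `L t = t M` as permutations of the 100 points -/
def chkT (L M : List ℕ) : Bool := allB (fun i => Nat.beq (lk tT (run L i)) (run M (lk tT i))) 100

theorem tau_of {L M : List ℕ} (h : chkT L M = true) : cj pT pT_mem (gw L) = gw M := by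
  apply Subtype.ext
  rw [cj_val, mul_inv_eq_iff_eq_mul]
  ext i
  have h1 := Nat.eq_of_beq_eq_true ((allB_iff _ _).1 h i i.2)
  have h2 : ((pT (pw L i) : Fin 100) : ℕ) = lk tT (run L i) := by
    rw [vT, pw_val]
  have h3 : ((pw M (pT i) : Fin 100) : ℕ) = run M (lk tT i) := by
    rw [pw_val, vT]
  exact (h2.trans h1).trans h3.symm

/-- an element of order 7 -/
def w7 : List ℕ := [2, 3, 4, 2, 3, 1, 2, 3, 1, 0, 1, 2, 1]

theorem order_w7 : orderOf (gw w7) = 7 := by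
  have : Fact (Nat.Prime 7) := ⟨by norm_num⟩
  refine orderOf_eq_prime ?_ (ne_one_of (by decide +kernel))
  rw [← gw_rp, ← gw_nil]
  exact eq_of_eqW (by decide +kernel)

theorem tau_w7 : cj pT pT_mem (gw w7) = (gw w7)⁻¹ := by
  rw [← gw_reverse]
  exact tau_of (by decide +kernel)

theorem tau_five {i j : ℕ} {C : List ℕ} (h : chkT (rL i) (C ++ (rL j ++ C.reverse)) = true) :
    IsConj (gw (rL j)) (cj pT pT_mem (gw (rL i))) := by
  rw [tau_of h, gw_append, gw_append, gw_reverse, ← mul_assoc]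
  exact isConj_iff.2 ⟨_, rfl⟩

theorem tau3 : IsConj (gw (rL 7)) (cj pT pT_mem (gw (rL 3))) := tau_five (C := [3, 1, 0, 1]) (by decide +kernel)
theorem tau7 : IsConj (gw (rL 3)) (cj pT pT_mem (gw (rL 7))) :=
  tau_five (C := [1, 2, 3, 2, 1, 0, 1, 2, 3, 4, 3, 2, 3, 1, 0, 1, 2]) (by decide +kernel)
theorem tau19 : IsConj (gw (rL 20)) (cj pT pT_mem (gw (rL 19))) :=
  tau_five (C := [2, 3, 1, 2, 3, 4, 2, 3, 1, 2, 3, 4, 2, 3, 1, 0, 1]) (by decide +kernel)
theorem tau20 : IsConj (gw (rL 19)) (cj pT pT_mem (gw (rL 20))) :=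
  tau_five (C := [1, 2, 3, 4, 3, 2, 3, 1, 2, 3, 4, 3, 2, 3, 1, 2, 3, 0]) (by decide +kernel)

theorem tau_no_five {y : G} (hy : orderOf y = 5) : cj pT pT_mem y ≠ y := by
  intro hfix
  obtain ⟨j, hj, ho, -⟩ := type y
  rw [hy] at ho
  have key : ∀ j : Fin 21, 5 = ov j → j = 3 ∨ j = 7 ∨ j = 19 ∨ j = 20 := by decide +kernel
  have h1 : IsConj (cj pT pT_mem (gw (rL j))) (gw (rL j)) := by
    have h2 : IsConj (cj pT pT_mem (gw (rL j))) (cj pT pT_mem y) :=
      (MonoidHom.map_isConj (cj pT pT_mem).toMonoidHom hj)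
    rw [hfix] at h2
    exact h2.trans hj.symm
  rcases key j ho with rfl | rfl | rfl | rfl
  · exact absurd (classes.2 7 3 (tau3.trans h1)) (by decide)
  · exact absurd (classes.2 3 7 (tau7.trans h1)) (by decide)
  · exact absurd (classes.2 20 19 (tau19.trans h1)) (by decide)
  · exact absurd (classes.2 19 20 (tau20.trans h1)) (by decide)

theorem out_model {α : MulAut G} (h2 : α * α = 1) (hout : ∀ x : G, α ≠ MulAut.conj x) :
    (∃ y : G, orderOf y = 7 ∧ α y = y⁻¹) ∧ ∀ y : G, orderOf y = 5 → α y ≠ y := by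
  obtain ⟨h, hh, ha⟩ := aut_G α
  have h1 : h ≠ 1 := by
    rintro rfl
    apply hout 1
    apply MulEquiv.ext
    intro g
    apply Subtype.ext
    rw [ha]
    simp
  have hhh : h * h = 1 := by
    refine cent_triv fun g hg => ?_
    have h4 := congrArg (fun f : MulAut G => ((f ⟨g, hg⟩ : G) : Perm (Fin 100))) h2
    simp only [MulAut.mul_apply, ha, MulAut.one_apply] at h4
    calc g * (h * h) = (h * (h * g * h⁻¹) * h⁻¹) * (h * h) := by rw [h4]
      _ = h * h * g := by group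
  have hnG : h ∉ G := by
    intro hG
    refine hout ⟨h, hG⟩ (MulEquiv.ext fun x => Subtype.ext ?_)
    rw [ha]
    rfl
  obtain ⟨k, g, hg, e⟩ := inv_HH hh hhh h1
  have hk : typP k = pT := by
    match k with
    | 0 =>
      exfalso
      apply hnG
      rw [e]
      exact conj_mem_G hg mA
    | 1 =>
      exfalso
      apply hnG
      rw [e]
      exact conj_mem_G hg mD
    | (n + 2) => rfl
  rw [hk] at e
  -- `α = γ τ γ⁻¹`
  have hα : ∀ z : G, α (cj g hg z) = cj g hg (cj pT pT_mem z) := by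
    intro z
    apply Subtype.ext
    rw [ha, cj_val, cj_val, cj_val, e]
    group
  refine ⟨⟨cj g hg (gw w7), by rw [MulEquiv.orderOf_eq, order_w7], ?_⟩, fun y hy hfix => ?_⟩
  · rw [hα, tau_w7, map_inv]
  · obtain ⟨z, rfl⟩ := (cj g hg).surjective y
    rw [hα] at hfix
    rw [MulEquiv.orderOf_eq] at hy
    exact tau_no_five hy ((cj g hg).injective hfix)

theorem out_facts {K : Type*} [Group K] (h : Spor.IsoJ2 K) {α : MulAut K} (h2 : α * α = 1)
    (hout : ∀ x : K, α ≠ MulAut.conj x) :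
    (∃ y : K, orderOf y = 7 ∧ α y = y⁻¹) ∧ ∀ y : K, orderOf y = 5 → α y ≠ y := by
  obtain ⟨E0⟩ := Cfsg.Agent.J2.HundredGens.J2_iso Cfsg.Agent.S1619.result.2.2.2
  obtain ⟨e0⟩ := h
  let e : K ≃* G := e0.trans E0
  have hv : ∀ z : K, (MulAut.congr e α) (e z) = e (α z) := by
    intro z
    simp [MulAut.congr]
  have h3 : MulAut.congr e α * MulAut.congr e α = 1 := by rw [← map_mul, h2, map_one]
  have h4 : ∀ x : G, MulAut.congr e α ≠ MulAut.conj x := by
    intro x hx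
    apply hout (e.symm x)
    ext z
    apply e.injective
    rw [← hv, hx]
    simp
  obtain ⟨⟨y, hy, hya⟩, h5⟩ := out_model h3 h4
  refine ⟨⟨e.symm y, by rw [MulEquiv.orderOf_eq, hy], ?_⟩, fun z hz hfix => ?_⟩
  · apply e.injective
    rw [← hv, map_inv, MulEquiv.apply_symm_apply, hya]
  · refine h5 (e z) (by rw [MulEquiv.orderOf_eq, hz]) ?_
    rw [hv, hfix]

end Cfsg.Agent.H90.RC.JTwo
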